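/-
Lifting the transvections of `SU₅(2)` along a normal 2-subgroup: a complement.
-/
import Cfsg.Agent.Lib.Tilde.SUodd
import Cfsg.Agent.Lib.Tilde.LineCert

set_option autoImplicit false
set_option linter.unusedSectionVars false
set_option linter.unusedVariables false
set_option maxRecDepth 100000

namespace CA.Tl

open CA.Unit CA.Cl CA.Fi Cfsg Subgroup

section Comm

variable {K V : Type*} [Field K] [StarRing K] [Fintype K] [AddCommGroup V] [Module K V]
  [FiniteDimensional K V] {h : Herm K V}
variable {H : Type*} [Group H] {π : H →* PU h} {t : V → H}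

theorem four_perm (hK : IsFq2 K 2) {ω ω' : K} (hω : ω ^ 2 + ω + 1 = 0) (hω' : ω' ^ 2 + ω' + 1 = 0)
    {P : K → H} (hc : ∀ a b, Commute (P a) (P b)) {b : K} (hb : b ≠ 0) :
    P 0 * P b * P (ω' * b) * P ((ω' + 1) * b) = P 0 * P 1 * P ω * P (ω + 1) := by
  have t := f4_two hK
  have e1 : ω * ω = ω + 1 := by linear_combination hω - (ω + 1) * t
  have e2 : (ω + 1) * ω = 1 := by linear_combination hω - t
  have e3 : ω * (ω + 1) = 1 := by linear_combination hω - t
  have e4 : (ω + 1) * (ω + 1) = ω := by linear_combination hω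
  have e5 : ω + 1 + 1 = ω := by linear_combination t
  have : ω' = ω ∨ ω' = ω + 1 := by
    rcases f4_cases hK hω ω' with e | e | e | e
    · rw [e] at hω'; simp at hω'
    · rw [e] at hω'; exact absurd (by linear_combination hω' - t) (one_ne_zero (α := K))
    · exact Or.inl e
    · exact Or.inr e
  rcases this with e | e <;> rcases f4_cases hK hω b with e' | e' | e' | e' <;>
    first
    | exact absurd e' hb
    | (rw [e, e']
       simp only [mul_one, e1, e2, e3, e4, e5, mul_assoc, (hc ω 1).eq, (hc ω 1).left_comm,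
        (hc (ω + 1) 1).eq, (hc (ω + 1) 1).left_comm, (hc (ω + 1) ω).eq, (hc (ω + 1) ω).left_comm])

theorem Lifts.line_eq (L : Lifts π t) (hK : IsFq2 K 2) (hh : ND h) (hs : Function.Surjective π)
    (hc : ∀ x, π x = 1 → x ∈ center H) {x y : H} (hx : x ∈ lineSet h t) (hy : y ∈ lineSet h t) :
    x = y := by
  have cx := mem_center_iff.1 (hc x (L.map_line hK hx))
  obtain ⟨ω', hω', e', w', a', rfl⟩ := hx
  obtain ⟨ω, hω, e, w, a, rfl⟩ := hy
  obtain ⟨g, hg⟩ := TI.witt hK hh a'.ti a.ti
  obtain ⟨c, c0, E1⟩ := hg 0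
  obtain ⟨b, b0, E2⟩ := hg 1
  change g.1.1 w' = c • w at E1
  change g.1.1 e' = b • e at E2
  obtain ⟨u, hu⟩ := hs g
  have k : ∀ s : K, u * t (w' + s • e') * u⁻¹ = t (w + (s * (b * c⁻¹)) • e) := fun s => by
    rw [L.conj' hu (a'.add s).ww (a'.add s).w0, map_add, map_smul, E1, E2,
      ← L.smul hK (a.add _).ww (a.add _).w0 c0]
    congr 1
    match_scalars <;> field_simp
  have ke : u * t e' * u⁻¹ = t e := by rw [L.conj' hu a'.ee a'.e0, E2, L.smul hK a.ee a.e0 b0]
  have := four_perm hK hω hω' (P := fun s => t (w + s • e))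
    (fun k l => L.commute hK (a.add k).ww (a.add k).w0 (a.add l).ww (a.add l).w0 (a.orth k l))
    (mul_ne_zero b0 (inv_ne_zero c0))
  have k0 := k 0
  have k1 := k 1
  simp only [zero_smul, add_zero, one_smul, zero_mul, one_mul] at this k0 k1
  rw [← this, ← k, ← k, ← k1, ← k0, ← ke, ← mul_inv_eq_iff_eq_mul.2 (cx u)]
  group

theorem Lifts.commutator_inf [Finite H] (L : Lifts π t) (hK : IsFq2 K 2) (hh : ND h)
    (hn : 4 ≤ Module.finrank K V) (h3 : ¬ 3 ∣ Module.finrank K V) (hs : Function.Surjective π)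
    (hk : IsPGroup 2 π.ker) (hgen : closure (tSet h t) = ⊤) {x : H} (hx : x ∈ commutator H)
    (h1 : π x = 1) : x = 1 := by
  have hc := fun x hx => L.central hgen (x := x) hx
  have kle := L.ker_le hK hh hn h3 hs hk hgen
  obtain ⟨ω, hω, -⟩ := exists_omega hK
  obtain ⟨e, he, e0⟩ := exists_iso hK hh (by omega)
  obtain ⟨w, a⟩ := exists_col hK hh hn he e0
  have hz : _ ∈ lineSet h t := ⟨ω, hω, e, w, a, rfl⟩
  have z2 : ∀ z ∈ lineSet h t, z * z = 1 := by
    rintro _ ⟨ω, hω, e, w, a, rfl⟩
    have := prod_mul_self (ε := 1) (fun x => Commute.one_left x)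
      [t (w + (0 : K) • e), t (w + (1 : K) • e), t (w + ω • e), t (w + (ω + 1) • e), t e] (by
        have c1 := fun k l => L.commute hK (a.add k).ww (a.add k).w0 (a.add l).ww (a.add l).w0
          (a.orth k l)
        have c2 := fun k => L.cz hK (a.add k)
        simp only [List.pairwise_cons, List.mem_cons, List.not_mem_nil, or_false, forall_eq_or_imp,
          forall_eq, false_imp_iff, implies_true, List.Pairwise.nil, and_true, c1, c2, and_self])
      (by
        have c1 := fun k : K => L.sq _ (a.add k).ww (a.add k).w0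
        simp only [List.mem_cons, List.not_mem_nil, or_false, forall_eq_or_imp, forall_eq, c1,
          L.sq e a.ee a.e0, and_self])
    simpa [mul_assoc] using this
  generalize t w * t (w + e) * t (w + ω • e) * t (w + (ω + 1) • e) * t e = z at hz
  have hk' : ∀ y, π y = 1 → y = 1 ∨ y = z := fun y hy =>
    TT.mem_zpowers_invol (z2 z hz) ((kle.trans ((closure_le _).2 fun u hu => by
      rw [L.line_eq hK hh hs hc hu hz]; exact mem_zpowers z)) hy)
  by_contra x1
  have xz := (hk' x h1).resolve_left x1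
  subst xz
  have C : CE π x := ⟨hs, fun y => ⟨hk' y, by rintro (rfl | rfl); exacts [map_one _, h1]⟩, x1⟩
  have L' : Lifts π fun v => t v * x := by
    refine ⟨fun v hv v0 => by rw [C.map_mul_d, L.map v hv v0], fun y v w hv v0 hw w0 E => ?_,
      fun v hv v0 => by rw [C.sq_congr (C.map_mul_d _), L.sq v hv v0]⟩
    rw [← L.conj y v w hv v0 hw w0 E, ← mul_assoc, mul_assoc _ x, (C.comm _).eq, ← mul_assoc]
  refine L'.not_mem_commutator_three hK hh hn C ?_ h3 hx
  intro ω hω e w a
  have := L.line_eq hK hh hs hc ⟨ω, hω, e, w, a, rfl⟩ hz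
  have s2 := L.sq e a.ee a.e0
  have cx := fun y => (C.comm y).left_comm
  dsimp only
  generalize t w = a1 at this
  generalize t (w + e) = a2 at this
  generalize t (w + ω • e) = a3 at this
  generalize t (w + (ω + 1) • e) = a4 at this
  generalize t e = a5 at this s2
  calc a1 * x * (a2 * x) * (a3 * x) * (a4 * x)
      = a1 * a2 * a3 * a4 * (a5 * a5) * ((x * x) * (x * x)) := by
        rw [s2]; simp only [mul_assoc, cx, one_mul]
    _ = _ := by rw [C.sq, mul_one, mul_one, ← mul_assoc, this, (C.comm _).eq]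

theorem tva_inv (hK : IsFq2 K 2) {v : V} (hv : h v v = 0) : (tva h v)⁻¹ = tva h v :=
  inv_eq_of_mul_eq_one_right (tva_mul_self hK hv)

theorem perfect_PU (hK : IsFq2 K 2) (hh : ND h) (hn : 4 ≤ Module.finrank K V) :
    commutator (PU h) = ⊤ := by
  have L0 : Lifts (MonoidHom.id _) (tva h) :=
    ⟨fun _ _ _ => rfl, fun _ _ _ _ _ _ _ E => E, fun v hv _ => tva_mul_self hK hv⟩
  refine L0.perfect hK hh hn Function.surjective_id (closure_tvaSet hK hh hn) fun ω hω e w a => ?_
  have := line_prod_tva hK hω a.ee a.ww a.ew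
  rw [mul_assoc, mul_assoc, mul_assoc, mul_eq_one_iff_inv_eq, tva_inv hK a.ee] at this
  simpa only [mul_assoc] using this.symm

end Comm

namespace U5

/-- multiplication in the field with four elements -/
def mu (a b : ℕ) : ℕ := (2625168384 >>> (2 * (4 * a + b))) % 4
/-- conjugation -/
def cn (a : ℕ) : ℕ := (180 >>> (2 * a)) % 4
/-- the hermitian form -/
def hE (x y : ℕ) : ℕ :=
  mu (x % 4) (cn (y % 4)) ^^^ mu (x / 4 % 4) (cn (y / 4 % 4)) ^^^ mu (x / 16 % 4) (cn (y / 16 % 4)) ^^^
    mu (x / 64 % 4) (cn (y / 64 % 4)) ^^^ mu (x / 256 % 4) (cn (y / 256 % 4))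
/-- `y + c x` -/
def lin (c x y : ℕ) : ℕ :=
  (y % 4 ^^^ mu c (x % 4)) + 4 * (y / 4 % 4 ^^^ mu c (x / 4 % 4)) +
    16 * (y / 16 % 4 ^^^ mu c (x / 16 % 4)) + 64 * (y / 64 % 4 ^^^ mu c (x / 64 % 4)) +
    256 * (y / 256 % 4 ^^^ mu c (x / 256 % 4))

def PT : ℕ := 0xfd2f47dcf63d4f4ed2b46dcb62d4b4dd2745dc761d477cdb35cde368d6374d9354d034f92e479ce6394e4e92a469ca6294a4d926459c6619467c9b25c9e26896274992549024f52d475cd535394a519625494d525455c5615457c5b15c5e16856174591545017f1bc5f1ec6b16c7719c571f86e1787a1a85a1d866158421f46d174791a4591d4651544113048110701407f4bd1f4ed1b4dd2745d034f92e4793a4a91a4d926459024f52d475394a5194d525455014310841130481104340901431084110d0240502b4c96010c635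

def IX : ℕ := 0x150000002300000030374552000000002900000019000000274a3b49000000001f000000040000001d414e3f00547292008a5876006e8e5c00000000050000001b000000200000002d3d424f000000002e000000160000002450384600000000250000002a0000001a474b3c005a6f8f0090557300748b59000000000600000018000000260000002b3a484c000000002c0000001c000000214d3e4300000000220000002f000000174451390057758c008d5b700071915600000000075d7ea10093648500779a69000000000868789b009f5e7f00839403000000000963849500990079007da05f000000000a0000000e0000000f000000103102320000000017000000220000002f394451000000002b00000018000000264c3a4800000000210000002c0000001c434d3e00567191008c577500708d5b00000000070000001d0000001f000000043f414e0000000030000000150000002352374500000000270000002900000019494a3b005c6e8e0092547200768a5800000000050000001a000000250000002a3c474b000000002d0000001b000000204f3d4200000000240000002e000000164650380059748b008f5a6f0073905500000000065f7da00095638400799900000000000a69779a00a15d7e008593640000000008038394009b6878007f9f5e000000000900000010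0000000e0000000f3231020000000016000000240000002e384650000000002a0000001a000000254b3c4700000000200000002d0000001b424f3d00557390008b5974006f8f5a00000000060000001c000000210000002c3e434d000000002f000000170000002251394400000000260000002b00000018484c3a005b708d0091567100758c5700000000070000001900000027000000293b494a00000000040000001d0000001f4e3f41000000002300000030000000154552370058768a008e5c6e0072925400000000055e7f9f0094038300789b68000000000900799900a05f7d00849563000000000a648593009a6977007ea15d00000000080000000f000000100000000e023231006081a400966688007a9d6c000000000b6a7b9e00a2618200869767000000000c658798009c6b7c0080a362000000000d000000110000001200000013333435006280a300986587007c9c6b000000000d6c7a9d00a4608100889666000000000b678697009e6a7b0082a261000000000c000000130000001100000012353334006182a200976786007b9e6a000000000c6b7c9c00a3628000879865000000000d668896009d6c7a0081a460000000000b00000012000000130000001134353300000000140000001e000000283640010000000028000000140000001e013640000000001e000000280000001440013600536d890089536d006d89530000000000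

/-- code of a point -/
def P (p : ℕ) : ℕ := (PT >>> (10 * p)) % 1024
/-- point of a code -/
def I (x : ℕ) : ℕ := (IX >>> (8 * x)) % 256
/-- the image of `q` under the transvection with centre `p` -/
def m (p q : ℕ) : ℕ := I (lin (hE (P q) (P p)) (P p) (P q))

/-- unpack steps -/
def unpk (X : ℕ) : ℕ → List (ℕ × ℕ × ℕ × ℕ) → List (ℕ × ℕ × ℕ × ℕ)
  | 0, l => l
  | n + 1, l => (X % 256, X / 256 % 256, X / 65536 % 256, X / 16777216 % 256) ::
      unpk (X / 4294967296) n l

def st0 : ℕ := 0x3e340100380801004d0801011f030101540201013902010042010101390101013b0101223c0000881f0300871f0200721f0100894104004f410200179101001c6202000002990400615b0400076a04019e040400012703004d930300650a03014c030300006202001d320200397702003b7702005c0a0200650a020138030200014401003b0801004c0301011d0301005202019d620100819801005f4404001a440000735402008f4c0300293803008b1d03000021240500195b04002c6a04013504040133040400528a03004d7c03004d9b0300399b030065930300270403005c0403003b7f020021770200210402001d020201650201014702010165010101470101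a31d02008e1d010014270400972702008d5c0200305c01000e2104007121010000394003004d0403004d3202004a0a020170030200019901006006010052340101700401206502007b65010075420000a25200003f4d0200864d0000647004003c70030000825d04002e2404000c0404008204040019040400760104002c0104007600040123030300473202003b04020047770100650a0100473401015703014a16030050390200483901001f390000413b0100913b0000625703009823030000075d04002e770400070404008c0404002c040400190204009c010400610004009c0004003b4003019e0303009c2f02009e060200387f02002e7702012d030200027901002e350100066c01019e04010019020100760201012c0101019c0101699e0400449e0300609e01006e2d0300546103003e2e03005a2e01004c47020000590a7800a06a35002f3235002e96090033340500197f0400767f04002c9b040033340400070804000702040006020400330104000b0104002a7c0301350403002f8a02005b0d0201330402009c030200840401009c0301384701001d47000079350400273503005c0c0300993304002133030065070300002c9b3500679b35002b9b05002a4005002f3205007a020500900105007a000500900005007f0504008c2404009c240400194004002c40040019320400566b040036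58040136040400740204009601040090040300760901009c24010055340100760101018a0101687a04005e90040042820300528c03004d190300702601001676000039a00400002c32040131040400009c03002b0503007c6b03008a0a03012c010301670103008a0103009c9b02009c580200965802008a5802008a0a0201660202009c3201007c6b01008a0a01006c34010031040101560201017c02013b2c0300572c0100236602009e2b02002d9c0200619c01002e9c0000478404000096740b008a930b007c770b007c080b0066090500310105007c7703006a08030002740200565d02000b0d02008a93020005930200960a02008a0802005b0802010904020024020200015501005b5801005b0a01006a0a01006c0301006c0201016a0201015b0101350b01000c55000033060200076c0000180904007a6701009056020082960100018a0141017c023300320a050031080500400105007f00050006090400008a0300246b03008a93030024580300325803007c080301050303002401030040040200743401005b3401008a0801006a08010040040101360301017c01018c740200598a0200198a0100268a000076360400a03603002c7c0200667c010000059309006a320500400a0500320205009b0005006a6b04005d5804002a7704019b0404009b0004006a9b03006a6b03006a5d02005b0a02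006a0802010d0302006a5d01006a3401007c08010032040100770401006b03012b7c00009c310400843103002f5b01000b5b0000557f04002a6a0200066a0000005b3409006a3409012402090124010900930a05007702050008020500930005000d0a04006b00040058000400340303009b04020008040200770a01009b0301000a0301005d0201005d0101019301016c9b0400095d000067050300560d030096240200742401008a40040036400100000801050077000500580a04019301040093040301930103000801030003010300770402017702020003020200580a0101770201010402017c320400313202005b9304007f9301006a7704009b7702005d0a03000534020000040202000804010103020101040101010301010d3401002408040040080200320801006b0204009302030058010400770103000a0102003400040008000300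

def st1 : ℕ := 0x4e35000f0535012801350046670400465604532801004e1200000f7e030028a1030012460300003d7a02003d2b02006d580200490a0201490202006d2d01003d7c01006d34010089340101890201000e0201016d01017e9501004b110000a17d020051130000463d01003a4902001e6d0100956d000000a3320500720a0500782404009f240401870404018e0404005f960300896b0301870403017204020141020100140101013f0101112504006f2501004387040037720400108902007d89000013170400a417020000445905003f2c05008e0a05008e0805001d0205001d0105000e93030173040300976b020097580200147702003f770200970a0200a30802019d040201810202000e0801789d0400158102009f7304001b8f01003da30400498e04009414000080970100003c6b050001790400576a040170040400716b030041930300715803013f04030021010300216b02017b040200500801014d0201858d0400830e0000927102009a7b04006d3f0400453f010025860200633c0400002758030050770201410402001f02020001200100023c01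

def steps : List (ℕ × ℕ × ℕ × ℕ) := unpk st0 400 (unpk st1 103 ([]))

theorem run_ok : LC.run 165 m 5 steps (2 ^ 5 - 1) 0 = true := by decide +kernel

theorem cover : ∀ x < 1024, x ≠ 0 → hE x x = 0 → I x < 165 ∧
    (lin 1 (P (I x)) 0 = x ∨ lin 2 (P (I x)) 0 = x ∨ lin 3 (P (I x)) 0 = x) := by decide +kernel

theorem pts : ∀ p < 165, P p ≠ 0 ∧ hE (P p) (P p) = 0 ∧ I (lin 1 (P p) 0) = p ∧
    I (lin 2 (P p) 0) = p ∧ I (lin 3 (P p) 0) = p := by decide +kernel

theorem mu_lt (a b : ℕ) : mu a b < 4 := Nat.mod_lt _ (by norm_num)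
theorem cn_lt (a : ℕ) : cn a < 4 := Nat.mod_lt _ (by norm_num)
theorem xor_lt {a b : ℕ} (ha : a < 4) (hb : b < 4) : a ^^^ b < 4 :=
  Nat.xor_lt_two_pow (n := 2) ha hb
theorem m4 (a : ℕ) : a % 4 < 4 := Nat.mod_lt _ (by norm_num)
theorem hE_lt (x y : ℕ) : hE x y < 4 :=
  xor_lt (xor_lt (xor_lt (xor_lt (mu_lt _ _) (mu_lt _ _)) (mu_lt _ _)) (mu_lt _ _)) (mu_lt _ _)
theorem P_lt (p : ℕ) : P p < 1024 := Nat.mod_lt _ (by norm_num)

variable {K : Type*} [Field K] [StarRing K] [Fintype K] {ω : K}

/-- the field element of a digit -/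
def emb (ω : K) : ℕ → K
  | 0 => 0
  | 1 => 1
  | 2 => ω
  | _ => ω + 1

/-- the vector of a code -/
def dec (ω : K) (x : ℕ) : Fin 5 → K :=
  ![emb ω (x % 4), emb ω (x / 4 % 4), emb ω (x / 16 % 4), emb ω (x / 64 % 4), emb ω (x / 256 % 4)]

theorem emb_xor (hK : IsFq2 K 2) {a b : ℕ} (ha : a < 4) (hb : b < 4) :
    emb ω (a ^^^ b) = emb ω a + emb ω b := by
  have t := f4_two hK
  interval_cases a <;> interval_cases b <;> simp only [Nat.reduceXor, emb] <;> grind

theorem emb_mu (hK : IsFq2 K 2) (hω : ω ^ 2 + ω + 1 = 0) {a b : ℕ} (ha : a < 4) (hb : b < 4) :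
    emb ω (mu a b) = emb ω a * emb ω b := by
  have t := f4_two hK
  interval_cases a <;> interval_cases b <;>
    simp only [mu, Nat.reduceMul, Nat.reduceAdd, Nat.reduceShiftRight, Nat.reduceMod, emb] <;> grind

theorem emb_cn (hK : IsFq2 K 2) (hω : ω ^ 2 + ω + 1 = 0) {a : ℕ} (ha : a < 4) :
    emb ω (cn a) = star (emb ω a) := by
  have t := f4_two hK
  rw [hK.star_eq]
  interval_cases a <;>
    simp only [cn, Nat.reduceMul, Nat.reduceShiftRight, Nat.reduceMod, emb] <;> grind

theorem emb_inj (hK : IsFq2 K 2) (hω : ω ^ 2 + ω + 1 = 0) {a b : ℕ} (ha : a < 4) (hb : b < 4)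
    (e : emb ω a = emb ω b) : a = b := by
  have t := f4_two hK
  interval_cases a <;> interval_cases b <;> simp only [emb] at e <;> grind

theorem emb_surj (hK : IsFq2 K 2) (hω : ω ^ 2 + ω + 1 = 0) (x : K) : ∃ a < 4, emb ω a = x := by
  rcases f4_cases hK hω x with e | e | e | e
  exacts [⟨0, by norm_num, e.symm⟩, ⟨1, by norm_num, e.symm⟩, ⟨2, by norm_num, e.symm⟩,
    ⟨3, by norm_num, e.symm⟩]

theorem std_dec (hK : IsFq2 K 2) (hω : ω ^ 2 + ω + 1 = 0) (x y : ℕ) :
    std K (Fin 5) (dec ω x) (dec ω y) = emb ω (hE x y) := by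
  rw [std_apply, hE, emb_xor hK (xor_lt (xor_lt (xor_lt (mu_lt _ _) (mu_lt _ _)) (mu_lt _ _))
    (mu_lt _ _)) (mu_lt _ _), emb_xor hK (xor_lt (xor_lt (mu_lt _ _) (mu_lt _ _)) (mu_lt _ _))
    (mu_lt _ _), emb_xor hK (xor_lt (mu_lt _ _) (mu_lt _ _)) (mu_lt _ _),
    emb_xor hK (mu_lt _ _) (mu_lt _ _)]
  simp only [emb_mu hK hω (m4 _) (cn_lt _), emb_cn hK hω (m4 _), Fin.sum_univ_five, dec]
  rfl

theorem dec_mk {a b c d e : ℕ} (ha : a < 4) (hb : b < 4) (hc : c < 4) (hd : d < 4) (he : e < 4) :
    dec ω (a + 4 * b + 16 * c + 64 * d + 256 * e) = ![emb ω a, emb ω b, emb ω c, emb ω d, emb ω e] := by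
  rw [dec, show (a + 4 * b + 16 * c + 64 * d + 256 * e) % 4 = a by omega,
    show (a + 4 * b + 16 * c + 64 * d + 256 * e) / 4 % 4 = b by omega,
    show (a + 4 * b + 16 * c + 64 * d + 256 * e) / 16 % 4 = c by omega,
    show (a + 4 * b + 16 * c + 64 * d + 256 * e) / 64 % 4 = d by omega,
    show (a + 4 * b + 16 * c + 64 * d + 256 * e) / 256 % 4 = e by omega]

theorem dec_lin (hK : IsFq2 K 2) (hω : ω ^ 2 + ω + 1 = 0) {c : ℕ} (hc : c < 4) (x y : ℕ) :
    dec ω (lin c x y) = dec ω y + emb ω c • dec ω x := by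
  rw [lin, dec_mk (xor_lt (m4 _) (mu_lt _ _)) (xor_lt (m4 _) (mu_lt _ _))
    (xor_lt (m4 _) (mu_lt _ _)) (xor_lt (m4 _) (mu_lt _ _)) (xor_lt (m4 _) (mu_lt _ _))]
  simp only [emb_xor hK (m4 _) (mu_lt _ _), emb_mu hK hω hc (m4 _)]
  ext i; fin_cases i <;> rfl

theorem lin_lt (c x y : ℕ) : lin c x y < 1024 := by
  have h1 := xor_lt (m4 y) (mu_lt c (x % 4))
  have h2 := xor_lt (m4 (y / 4)) (mu_lt c (x / 4 % 4))
  have h3 := xor_lt (m4 (y / 16)) (mu_lt c (x / 16 % 4))
  have h4 := xor_lt (m4 (y / 64)) (mu_lt c (x / 64 % 4))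
  have h5 := xor_lt (m4 (y / 256)) (mu_lt c (x / 256 % 4))
  rw [lin]; omega

theorem dec_zero : dec ω 0 = 0 := by ext i; fin_cases i <;> rfl

theorem dec_inj (hK : IsFq2 K 2) (hω : ω ^ 2 + ω + 1 = 0) {x y : ℕ} (hx : x < 1024)
    (hy : y < 1024) (e : dec ω x = dec ω y) : x = y := by
  have h0 := emb_inj hK hω (m4 _) (m4 _) (congrFun e 0)
  have h1 := emb_inj hK hω (m4 _) (m4 _) (congrFun e 1)
  have h2 := emb_inj hK hω (m4 _) (m4 _) (congrFun e 2)
  have h3 := emb_inj hK hω (m4 _) (m4 _) (congrFun e 3)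
  have h4 := emb_inj hK hω (m4 _) (m4 _) (congrFun e 4)
  omega

theorem dec_surj (hK : IsFq2 K 2) (hω : ω ^ 2 + ω + 1 = 0) (v : Fin 5 → K) :
    ∃ x < 1024, dec ω x = v := by
  choose a ha e using fun i => emb_surj hK hω (v i)
  refine ⟨a 0 + 4 * a 1 + 16 * a 2 + 64 * a 3 + 256 * a 4, by
    have := ha 0; have := ha 1; have := ha 2; have := ha 3; have := ha 4; omega, ?_⟩
  rw [dec_mk (ha 0) (ha 1) (ha 2) (ha 3) (ha 4)]
  ext i; fin_cases i <;> exact e _

theorem vec_iso (hK : IsFq2 K 2) (hω : ω ^ 2 + ω + 1 = 0) {p : ℕ} (hp : p < 165) :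
    std K (Fin 5) (dec ω (P p)) (dec ω (P p)) = 0 := by rw [std_dec hK hω, (pts p hp).2.1]; rfl

theorem vec_ne (hK : IsFq2 K 2) (hω : ω ^ 2 + ω + 1 = 0) {p : ℕ} (hp : p < 165) :
    dec ω (P p) ≠ 0 := fun e =>
  (pts p hp).1 (dec_inj hK hω (P_lt p) (by norm_num) (e.trans dec_zero.symm))

theorem exists_pt (hK : IsFq2 K 2) (hω : ω ^ 2 + ω + 1 = 0) {x : ℕ} (hx : x < 1024)
    (h1 : std K (Fin 5) (dec ω x) (dec ω x) = 0) (h0 : dec ω x ≠ 0) :
    I x < 165 ∧ tva (std K (Fin 5)) (dec ω (P (I x))) = tva (std K (Fin 5)) (dec ω x) := by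
  rw [std_dec hK hω] at h1
  obtain ⟨k1, k2⟩ := cover x hx (by rintro rfl; exact h0 dec_zero)
    (emb_inj hK hω (hE_lt _ _) (by norm_num) h1)
  refine ⟨k1, ?_⟩
  have : ∀ c < 4, lin c (P (I x)) 0 = x →
      tva (std K (Fin 5)) (dec ω (P (I x))) = tva (std K (Fin 5)) (dec ω x) := by
    intro c hc e
    have e1 := dec_lin hK hω hc (P (I x)) 0
    rw [e, dec_zero, zero_add] at e1
    rw [e1, tva_smul hK (vec_iso hK hω k1) (fun e2 => h0 (by rw [e1, e2, zero_smul]))]
  rcases k2 with e | e | e
  exacts [this 1 (by norm_num) e, this 2 (by norm_num) e, this 3 (by norm_num) e]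

theorem tva_inj (hK : IsFq2 K 2) (hω : ω ^ 2 + ω + 1 = 0) {p q : ℕ} (hp : p < 165) (hq : q < 165)
    (e : tva (std K (Fin 5)) (dec ω (P p)) = tva (std K (Fin 5)) (dec ω (P q))) : p = q := by
  obtain ⟨a, a0, ha⟩ := (tva_eq_iff hK nd_std (by simp) (vec_iso hK hω hp) (vec_iso hK hω hq)
    (vec_ne hK hω hp) (vec_ne hK hω hq)).1 e
  obtain ⟨c, hc, rfl⟩ := emb_surj hK hω a
  have e1 : lin 1 (P q) 0 = lin c (P p) 0 := dec_inj hK hω (lin_lt _ _ _) (lin_lt _ _ _) (by
    rw [dec_lin hK hω hc, dec_lin hK hω (by norm_num), ← ha]; simp [emb])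
  obtain ⟨-, -, k1, k2, k3⟩ := pts p hp
  rw [← (pts q hq).2.2.1, e1]
  obtain rfl | rfl | rfl | rfl : c = 0 ∨ c = 1 ∨ c = 2 ∨ c = 3 := by omega
  exacts [absurd rfl a0, k1.symm, k2.symm, k3.symm]

theorem tva_m (hK : IsFq2 K 2) (hω : ω ^ 2 + ω + 1 = 0) {p q : ℕ} (hp : p < 165) (hq : q < 165) :
    m p q < 165 ∧ tva (std K (Fin 5)) (dec ω (P (m p q))) = tva (std K (Fin 5)) (dec ω (P p)) *
      tva (std K (Fin 5)) (dec ω (P q)) * tva (std K (Fin 5)) (dec ω (P p)) := by
  have e := dec_lin hK hω (hE_lt (P q) (P p)) (P p) (P q)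
  rw [← std_dec hK hω] at e
  have := exists_pt hK hω (lin_lt (hE (P q) (P p)) (P p) (P q))
    (e ▸ iso_conj hK (vec_iso hK hω hp) (vec_iso hK hω hq))
    (e ▸ ne_zero_conj hK (vec_iso hK hω hp) (vec_ne hK hω hq))
  refine ⟨this.1, this.2.trans ?_⟩
  rw [e, ← tva_conj hK (vec_iso hK hω hp), tva_inv hK (vec_iso hK hω hp)]

theorem exists_complement {G : Type*} [Group G] [Finite G] {D : Set G}
    {π : G →* PU (std K (Fin 5))} (hK : IsFq2 K 2) (hD : IsThreeTranspositionClass D)
    (hs : Function.Surjective π) (hk : IsPGroup 2 π.ker) : ∃ M : Subgroup G, π.ker.IsComplement' M := by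
  obtain ⟨ω, hω, -⟩ := exists_omega hK
  have hn : Module.finrank K (Fin 5 → K) = 5 := by simp
  have him := image_eq_tva hK nd_std (by omega) hD hs
  have hex : ∀ i, ∃ d, i < 5 → d ∈ D ∧ π d = tva _ (dec ω (P i)) := by
    intro i
    by_cases hi : i < 5
    · obtain ⟨d, hd⟩ : tva _ (dec ω (P i)) ∈ π '' D :=
        him ▸ ⟨_, vec_iso hK hω (by omega), vec_ne hK hω (by omega), rfl⟩
      exact ⟨d, fun _ => hd⟩
    · exact ⟨1, fun h => absurd h hi⟩
  choose g hg using hex
  set M := closure (g '' {i | i < 5}) with hM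
  have O : LC.Ov 165 m (fun (x : G) p => x ∈ D ∧ x ∈ M ∧ π x = tva _ (dec ω (P p))) := by
    refine ⟨fun x p hx => TT.sq hD.1 hx.1, fun x y p q hp hq hx hy => ⟨TT.conj_mem'
      (TT.class_group hD) hx.1 hy.1, mul_mem (mul_mem hx.2.1 hy.2.1) hx.2.1, ?_⟩,
      fun x y p q hp hq hx hy e => ?_, fun x y p q hp hq hx hy e => TT.braid hD.1 hx.1 hy.1 fun hc => e ?_⟩
    · rw [map_mul, map_mul, hx.2.2, hy.2.2, (tva_m hK hω hp hq).2]
    · have := (tva_m hK hω hp hq).2
      rw [e, ← hx.2.2, ← hy.2.2] at this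
      have c : Commute x y := TM.commute_of_map π hk hD.1 hx.1 hy.1 (by
        have h2 : π x * π x = 1 := by rw [← map_mul, TT.sq hD.1 hx.1, map_one]
        calc π x * π y = π x * π y * (π x * π x) := by rw [h2, mul_one]
          _ = π y * π x := by rw [← mul_assoc, ← this])
      rw [c.eq, mul_assoc, TT.sq hD.1 hx.1, mul_one]
    · refine tva_inj hK hω (tva_m hK hω hp hq).1 hq ?_
      rw [(tva_m hK hω hp hq).2, ← hx.2.2, ← hy.2.2, ← map_mul, ← map_mul, hc.eq, mul_assoc,
        TT.sq hD.1 hx.1, mul_one]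
  obtain ⟨T, e1, e2⟩ := LC.exists_lift O (r := 5) (by norm_num) (g := g)
    (fun i hi => ⟨(hg i hi).1, subset_closure ⟨i, hi, rfl⟩, (hg i hi).2⟩) run_ok
  have hT := fun j hj => (e2 0 (by norm_num) j hj).1
  have eqv : ∀ x ∈ M, ∀ p < 165, ∃ q < 165, x * T p * x⁻¹ = T q := by
    have gen : ∀ i < 5, ∀ x : G, (∀ p < 165, ∃ q < 165, x * T p * x⁻¹ = T q) →
        ∀ p < 165, ∃ q < 165, (g i * x) * T p * (g i * x)⁻¹ = T q := by
      intro i hi x hx p hp
      obtain ⟨q, hq, E⟩ := hx p hp
      refine ⟨_, (tva_m hK hω (show i < 165 by omega) hq).1, ?_⟩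
      rw [← (e2 i hi q hq).2, ← E, e1 i hi, mul_inv_rev, TT.inv_eq hD.1 (hg i hi).1]; group
    intro x hx
    induction hx using closure_induction_left with
    | one => exact fun p hp => ⟨p, hp, by simp⟩
    | mul_left x hx y _ ih => obtain ⟨i, hi, rfl⟩ := hx; exact gen i hi y ih
    | inv_mul_cancel x hx y _ ih =>
      obtain ⟨i, hi, rfl⟩ := hx
      rw [TT.inv_eq hD.1 (hg i hi).1]; exact gen i hi y ih
  have hex : ∀ v, ∃ p < 165, std K (Fin 5) v v = 0 → v ≠ 0 →
      tva (std K (Fin 5)) (dec ω (P p)) = tva (std K (Fin 5)) v := by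
    intro v
    by_cases hv : std K (Fin 5) v v = 0 ∧ v ≠ 0
    · obtain ⟨x, hx, rfl⟩ := dec_surj hK hω v
      exact ⟨_, (exists_pt hK hω hx hv.1 hv.2).1, fun _ _ => (exists_pt hK hω hx hv.1 hv.2).2⟩
    · exact ⟨0, by norm_num, fun h1 h2 => absurd ⟨h1, h2⟩ hv⟩
  choose pt hpt ept using hex
  let π' := π.comp M.subtype
  let t : (Fin 5 → K) → M := fun v => ⟨T (pt v), (hT _ (hpt v)).2.1⟩
  have L : Lifts π' t := by
    refine ⟨fun v hv v0 => (hT _ (hpt v)).2.2.trans (ept v hv v0), fun x v w hv v0 hw w0 E => ?_,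
      fun v _ _ => Subtype.ext (TT.sq hD.1 (hT _ (hpt v)).1)⟩
    obtain ⟨q, hq, E'⟩ := eqv x x.2 _ (hpt v)
    refine Subtype.ext (E'.trans (congrArg T (tva_inj hK hω hq (hpt w) ?_)))
    rw [← (hT q hq).2.2, ← E', ept w hw w0, ← E, map_mul, map_mul, map_inv, (hT _ (hpt v)).2.2,
      ept v hv v0]
    rfl
  have hgen : closure (tSet (std K (Fin 5)) t) = ⊤ := by
    rw [eq_top_iff, ← closure_closure_coe_preimage (k := g '' {i | i < 5})]
    refine closure_mono ?_
    rintro ⟨x, hx⟩ ⟨i, hi, rfl⟩
    have hi' : i < 165 := lt_trans hi (by norm_num)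
    refine ⟨_, vec_iso hK hω hi', vec_ne hK hω hi', Subtype.ext ?_⟩
    change g i = T _
    rw [tva_inj hK hω (hpt _) hi' (ept _ (vec_iso hK hω hi') (vec_ne hK hω hi')), e1 i hi]
  have hs' : Function.Surjective π' := by
    rw [← MonoidHom.range_eq_top, eq_top_iff, ← closure_tvaSet hK nd_std (by omega), closure_le]
    rintro _ ⟨v, hv, v0, rfl⟩
    exact ⟨_, L.map v hv v0⟩
  have hk' : IsPGroup 2 π'.ker := by
    rw [← MonoidHom.comap_ker]; exact hk.comap_of_injective M.subtype M.subtype_injective
  have hperf := perfect_PU hK (nd_std (K := K) (ι := Fin 5)) (by omega)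
  refine ⟨(commutator M).map M.subtype, isComplement'_of_disjoint_and_mul_eq_univ ?_ ?_⟩
  · rw [disjoint_iff_inf_le]
    rintro _ ⟨h1, x, hx, rfl⟩
    rw [L.commutator_inf hK nd_std (by omega) (by omega) hs' hk' hgen hx h1]
    exact one_mem _
  · rw [Set.eq_univ_iff_forall]
    intro x
    have : π x ∈ (commutator M).map π' := by
      rw [map_commutator_eq, MonoidHom.range_eq_top.2 hs']
      change _ ∈ commutator _
      rw [hperf]; trivial
    obtain ⟨y, hy, E⟩ := this
    exact ⟨x * (y : G)⁻¹, by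
      change π _ = 1
      rw [map_mul, map_inv, ← E]; exact mul_inv_cancel _, y, ⟨y, hy, rfl⟩, by simp⟩

end U5

end CA.Tl
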